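import Mathlib.AlgebraicGeometry.AffineSpace
import Mathlib.AlgebraicGeometry.Fiber
import Mathlib.AlgebraicGeometry.Morphisms.Finite
import Mathlib.AlgebraicGeometry.Morphisms.ClosedImmersion
import Mathlib.AlgebraicGeometry.Morphisms.FiniteType

/-!
Morphisms to affine spaces given by coordinates, and their restrictions to fibres.
-/

universe u

open CategoryTheory CategoryTheory.Limits AlgebraicGeometry MvPolynomial

namespace Groth.Agent.AffNorm62

variable {n : Type u} {X Y Y' : Scheme.{u}}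

theorem isPullback_homOfVector (r : Y' ⟶ Y) (f : X ⟶ Y) (v : n → Γ(X, ⊤)) :
    IsPullback (pullback.fst f r)
      (AffineSpace.homOfVector (pullback.snd f r) fun i => (pullback.fst f r).appTop (v i))
      (AffineSpace.homOfVector f v) (AffineSpace.map n r) := by
  refine IsPullback.of_bot ?_ ?_ (AffineSpace.isPullback_map r)
  · rw [AffineSpace.homOfVector_over, AffineSpace.homOfVector_over]
    exact IsPullback.of_hasPullback f r
  · apply AffineSpace.hom_ext
    · simp [pullback.condition]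
    · intro i
      rw [Scheme.Hom.comp_appTop, Scheme.Hom.comp_appTop, CommRingCat.comp_apply,
        CommRingCat.comp_apply]
      erw [AffineSpace.map_appTop_coord]
      erw [AffineSpace.homOfVector_appTop_coord]
      erw [AffineSpace.homOfVector_appTop_coord]

theorem property_snd_fst_iff (P : MorphismProperty Scheme.{u}) [P.RespectsIso] (r : Y' ⟶ Y)
    (f : X ⟶ Y) (v : n → Γ(X, ⊤)) :
    P (pullback.snd (AffineSpace.homOfVector f v) (pullback.fst (𝔸(n; Y) ↘ Y) r)) ↔
      P (AffineSpace.homOfVector (pullback.snd f r) fun i => (pullback.fst f r).appTop (v i)) := by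
  let e := (AffineSpace.isPullback_map (n := n) r).isoPullback
  let c := AffineSpace.homOfVector (pullback.snd f r) fun i => (pullback.fst f r).appTop (v i)
  have h : IsPullback (pullback.fst f r) (c ≫ e.hom) (AffineSpace.homOfVector f v)
      (pullback.fst (𝔸(n; Y) ↘ Y) r) :=
    (isPullback_homOfVector r f v).of_iso (Iso.refl _) (Iso.refl _) e (Iso.refl _)
      (by simp) (by simp [c]) (by simp) (by simp [e])
  rw [← h.isoPullback_inv_snd, P.cancel_left_of_respectsIso, P.cancel_right_of_respectsIso]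

theorem homOfVector_eq {κ : CommRingCat.{u}} {Q : Scheme.{u}} [IsAffine Q] (s : Q ⟶ Spec κ)
    (w : n → Γ(Q, ⊤)) :
    AffineSpace.homOfVector s w = Q.isoSpec.hom ≫
      Spec.map (CommRingCat.ofHom (eval₂Hom ((Scheme.ΓSpecIso κ).inv ≫ s.appTop).hom w)) ≫
        (AffineSpace.SpecIso n κ).inv := by
  apply AffineSpace.hom_ext
  · simp only [AffineSpace.homOfVector_over, Category.assoc, AffineSpace.SpecIso_inv_over,
      ← Spec.map_comp, ← CommRingCat.ofHom_comp]
    rw [eval₂Hom_comp_C, CommRingCat.ofHom_hom, Spec.map_comp,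
      Scheme.isoSpec_hom, ← Scheme.toSpecΓ_naturality_assoc]
    simp
  · intro i
    rw [AffineSpace.homOfVector_appTop_coord]
    let φ := CommRingCat.ofHom (eval₂Hom ((Scheme.ΓSpecIso κ).inv ≫ s.appTop).hom w)
    have h1 := AffineSpace.SpecIso_inv_appTop_coord (n := n) κ i
    have h2 := ConcreteCategory.congr_hom (Scheme.ΓSpecIso_inv_naturality φ) (X i)
    have h3 := Scheme.toSpecΓ_appTop Q
    simp only [Scheme.Hom.comp_appTop, CommRingCat.comp_apply, Scheme.isoSpec_hom] at h2 ⊢
    erw [h1, h3]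
    trans (Scheme.ΓSpecIso Γ(Q, ⊤)).hom ((φ ≫ (Scheme.ΓSpecIso (CommRingCat.of Γ(Q, ⊤))).inv) (X i))
    · change w i = ((φ ≫ (Scheme.ΓSpecIso Γ(Q, ⊤)).inv) ≫ (Scheme.ΓSpecIso Γ(Q, ⊤)).hom) (X i)
      rw [Category.assoc, Iso.inv_hom_id, Category.comp_id]
      exact (eval₂Hom_X' _ _ _).symm
    · exact congrArg (Scheme.ΓSpecIso Γ(Q, ⊤)).hom h2

/-- The ring map attached to coordinates on an affine scheme over `Spec κ`. -/
noncomputable def coordHom {κ : CommRingCat.{u}} {Q : Scheme.{u}} (s : Q ⟶ Spec κ)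
    (w : n → Γ(Q, ⊤)) : MvPolynomial n κ →+* Γ(Q, ⊤) :=
  eval₂Hom ((Scheme.ΓSpecIso κ).inv ≫ s.appTop).hom w

theorem property_homOfVector_iff (P : MorphismProperty Scheme.{u}) [P.RespectsIso]
    {κ : CommRingCat.{u}} {Q : Scheme.{u}} [IsAffine Q] (s : Q ⟶ Spec κ) (w : n → Γ(Q, ⊤)) :
    P (AffineSpace.homOfVector s w) ↔ P (Spec.map (CommRingCat.ofHom (coordHom s w))) := by
  rw [homOfVector_eq, P.cancel_left_of_respectsIso, P.cancel_right_of_respectsIso]
  rfl

instance respectsIso_isFinite : MorphismProperty.RespectsIso @IsFinite.{u} :=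
  MorphismProperty.IsStableUnderBaseChange.respectsIso

theorem isFinite_homOfVector_iff {κ : CommRingCat.{u}} {Q : Scheme.{u}} [IsAffine Q]
    (s : Q ⟶ Spec κ) (w : n → Γ(Q, ⊤)) :
    IsFinite (AffineSpace.homOfVector s w) ↔ (coordHom s w).Finite :=
  (property_homOfVector_iff @IsFinite s w).trans (IsFinite.SpecMap_iff _)

theorem surjective_homOfVector_iff {κ : CommRingCat.{u}} {Q : Scheme.{u}} [IsAffine Q]
    (s : Q ⟶ Spec κ) (w : n → Γ(Q, ⊤)) :
    Surjective (AffineSpace.homOfVector s w) ↔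
      Function.Surjective (PrimeSpectrum.comap (coordHom s w)) :=
  (property_homOfVector_iff @Surjective s w).trans (surjective_iff _)

theorem coordHom_surjective {κ : CommRingCat.{u}} {Q : Scheme.{u}} [IsAffine Q]
    (s : Q ⟶ Spec κ) (w : n → Γ(Q, ⊤)) [IsClosedImmersion (AffineSpace.homOfVector s w)] :
    Function.Surjective (coordHom s w) := by
  have : IsClosedImmersion (Spec.map (CommRingCat.ofHom (coordHom s w))) :=
    (property_homOfVector_iff @IsClosedImmersion s w).1 ‹_›
  have h := (IsClosedImmersion.isAffine_surjective_of_isAffine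
    (f := Spec.map (CommRingCat.ofHom (coordHom s w)))).2
  exact ((RingHom.surjective_respectsIso.arrow_mk_iso_iff
    (arrowIsoΓSpecOfIsAffine (CommRingCat.ofHom (coordHom s w)))).2 h)

/-- Finitely many generators of an affine scheme of finite type over an affine scheme. -/
theorem exists_isClosedImmersion_homOfVector [IsAffine X] [IsAffine Y] (f : X ⟶ Y)
    [LocallyOfFiniteType f] :
    ∃ (m : ℕ) (b : ULift.{u} (Fin m) → Γ(X, ⊤)),
      IsClosedImmersion (AffineSpace.homOfVector f b) := by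
  have hft : f.appTop.hom.FiniteType := HasRingHomProperty.appTop @LocallyOfFiniteType f ‹_›
  algebraize [f.appTop.hom]
  obtain ⟨m, φ, hφ⟩ := Algebra.FiniteType.iff_quotient_mvPolynomial''.1
    (inferInstance : Algebra.FiniteType Γ(Y, ⊤) Γ(X, ⊤))
  refine ⟨m, fun i => φ (MvPolynomial.X i.down), ?_⟩
  have : IsAffine 𝔸(ULift.{u} (Fin m); Y) := inferInstance
  apply IsClosedImmersion.of_surjective_of_isAffine
  intro x
  obtain ⟨p, rfl⟩ := hφ x
  induction p using MvPolynomial.induction_on with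
  | C a =>
    refine ⟨(𝔸(ULift.{u} (Fin m); Y) ↘ Y).appTop a, ?_⟩
    rw [← CommRingCat.comp_apply, ← Scheme.Hom.comp_appTop, AffineSpace.homOfVector_over]
    exact (φ.commutes a).symm
  | add p q hp hq =>
    obtain ⟨a, ha⟩ := hp; obtain ⟨b, hb⟩ := hq
    exact ⟨a + b, by rw [map_add, map_add, ha, hb]⟩
  | mul_X p i hp =>
    obtain ⟨a, ha⟩ := hp
    refine ⟨a * AffineSpace.coord Y ⟨i⟩, ?_⟩
    rw [map_mul, map_mul, ha, AffineSpace.homOfVector_appTop_coord]

end Groth.Agent.AffNorm62
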