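import Groth.Agent.E4O.FibreComp
import Groth.Agent.Cyc90.FlatRelDim
import Groth.Agent.VarGal.QFPoint
import Mathlib.AlgebraicGeometry.AffineSpace
import Mathlib.RingTheory.KrullDimension.Polynomial

/-!
Generic points of the fibres of affine space, and degrees along quasi-finite morphisms.
-/

universe u

open CategoryTheory CategoryTheory.Limits AlgebraicGeometry

namespace Groth.Agent.AffNorm62

variable {Y : Scheme.{u}}

/-- `fdeg` is unchanged by a morphism quasi-finite at the point. -/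
theorem fdeg_comp_eq_of_quasiFiniteAt {A B S : Scheme.{u}} (k : A ⟶ B) [LocallyOfFiniteType k]
    (g : B ⟶ S) [LocallyOfFiniteType g] (x : A) (hx : k.QuasiFiniteAt x) :
    E4O.fdeg (k ≫ g) x = E4O.fdeg g (k x) := by
  have h1 := Cyc90.trdeg_residueField_eq_fdeg k x
  have h2 := Cyc90.trdeg_residueField_eq_fdeg g (k x)
  have h3 := Cyc90.trdeg_residueField_eq_fdeg (k ≫ g) x
  rw [VarGal.fdeg_eq_zero_of_quasiFiniteAt k hx] at h1
  let K := S.residueField (g (k x)); let L := B.residueField (k x); let M := A.residueField x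
  letI aKL : Algebra K L := (g.residueFieldMap (k x)).hom.toAlgebra
  letI aLM : Algebra L M := (k.residueFieldMap x).hom.toAlgebra
  letI aKM : Algebra K M := ((k ≫ g).residueFieldMap x).hom.toAlgebra
  have : IsScalarTower K L M := IsScalarTower.of_algebraMap_eq' (by
    change ((k ≫ g).residueFieldMap x).hom = _
    rw [Scheme.residueFieldMap_comp]
    rfl)
  have h : Algebra.trdeg K L + Algebra.trdeg L M = Algebra.trdeg K M := trdeg_add_eq K L (A := M)
  rw [h1, h2, Nat.cast_zero, add_zero] at h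
  exact (Nat.cast_injective (h.trans h3)).symm

variable (e : ℕ)

theorem dim_affineSpace_field (K : Type u) [Field K] :
    topologicalKrullDim ↥𝔸(ULift.{u} (Fin e); Spec (CommRingCat.of K)) = (e : ℕ) := by
  rw [IsHomeomorph.topologicalKrullDim_eq _
    (AffineSpace.SpecIso (ULift.{u} (Fin e)) (CommRingCat.of K)).hom.homeomorph.isHomeomorph]
  have h := PrimeSpectrum.topologicalKrullDim_eq_ringKrullDim (MvPolynomial (ULift.{u} (Fin e)) K)
  rw [MvPolynomial.ringKrullDim_of_isNoetherianRing, ringKrullDim_eq_zero_of_field, zero_add,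
    Nat.card_ulift, Nat.card_fin] at h
  exact h

/-- The generic point of the fibre of affine space over a point. -/
theorem exists_generic (y : Y) : ∃ a : ↥𝔸(ULift.{u} (Fin e); Y),
    (𝔸(ULift.{u} (Fin e); Y) ↘ Y) a = y ∧ E4O.fdeg (𝔸(ULift.{u} (Fin e); Y) ↘ Y) a = e ∧
      ∀ b, (𝔸(ULift.{u} (Fin e); Y) ↘ Y) b = y → a ⤳ b := by
  let π := 𝔸(ULift.{u} (Fin e); Y) ↘ Y
  let K : Type u := Y.residueField y
  let i : 𝔸(ULift.{u} (Fin e); Spec (CommRingCat.of K)) ≅ π.fiber y :=
    (AffineSpace.isPullback_map (n := ULift.{u} (Fin e)) (Y.fromSpecResidueField y)).isoPullback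
  have : IrreducibleSpace ↥(π.fiber y) := i.hom.homeomorph.irreducibleSpace_iff.1 inferInstance
  let z := genericPoint ↥(π.fiber y)
  refine ⟨π.fiberι y z, E4O.apply_fiberι π y z, ?_, fun b hb => ?_⟩
  · have h := E4O.dim_closure_fiber π y z
    rw [genericPoint_closure, IsHomeomorph.topologicalKrullDim_eq _
      (Homeomorph.Set.univ ↥(π.fiber y)).isHomeomorph,
      ← IsHomeomorph.topologicalKrullDim_eq _ i.hom.homeomorph.isHomeomorph,
      dim_affineSpace_field] at h
    exact_mod_cast h.symm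
  · obtain ⟨w, rfl⟩ := E4O.exists_fiberι_eq π hb
    exact (genericPoint_specializes w).map (π.fiberι y).continuous

set_option maxHeartbeats 1000000 in
theorem fdeg_over_le (b : ↥𝔸(ULift.{u} (Fin e); Y)) :
    E4O.fdeg (𝔸(ULift.{u} (Fin e); Y) ↘ Y) b ≤ e := by
  obtain ⟨a, ha, had, hab⟩ := exists_generic e ((𝔸(ULift.{u} (Fin e); Y) ↘ Y) b)
  exact (E4O.fdeg_le (hab b rfl) ha).trans had.le

/-- A point of full degree over a maximal point of the base is maximal. -/
theorem isMax_of_fdeg_eq {b : ↥𝔸(ULift.{u} (Fin e); Y)}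
    (hd : E4O.fdeg (𝔸(ULift.{u} (Fin e); Y) ↘ Y) b = e)
    (hy : ∀ y', y' ⤳ (𝔸(ULift.{u} (Fin e); Y) ↘ Y) b → y' = (𝔸(ULift.{u} (Fin e); Y) ↘ Y) b) :
    ∀ w, w ⤳ b → w = b := by
  intro w hw
  let π := 𝔸(ULift.{u} (Fin e); Y) ↘ Y
  obtain ⟨a, ha, had, hab⟩ := exists_generic e (π b)
  have hbeq : a = b := by
    by_contra hne
    have := E4O.fdeg_lt (f := π) (hab b rfl) ha hne
    simp only [π] at this
    omega
  have hwπ : π w = π b := hy _ (hw.map π.continuous)
  exact (hw.antisymm (hbeq ▸ hab w hwπ)).eq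

/-- A maximal point of affine space lies over a maximal point and has full degree. -/
theorem of_isMax {b : ↥𝔸(ULift.{u} (Fin e); Y)} (hb : ∀ w, w ⤳ b → w = b) :
    E4O.fdeg (𝔸(ULift.{u} (Fin e); Y) ↘ Y) b = e ∧
      ∀ y', y' ⤳ (𝔸(ULift.{u} (Fin e); Y) ↘ Y) b → y' = (𝔸(ULift.{u} (Fin e); Y) ↘ Y) b := by
  let π := 𝔸(ULift.{u} (Fin e); Y) ↘ Y
  obtain ⟨a, ha, had, hab⟩ := exists_generic e (π b)
  refine ⟨(hb a (hab b rfl)) ▸ had, fun y' hy' => ?_⟩
  obtain ⟨a', ha', -, hab'⟩ := exists_generic e y'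
  have h1 : b ∈ π ⁻¹' closure {y'} := specializes_iff_mem_closure.1 hy'
  have h2 := (AffineSpace.isOpenMap_over (n := ULift.{u} (Fin e)) (S := Y)).preimage_closure_subset_closure_preimage h1
  have h3 : b ∈ closure {a'} := closure_minimal
    (fun t (ht : π t = y') => specializes_iff_mem_closure.1 (hab' t ht)) isClosed_closure h2
  rw [← ha', hb a' (specializes_iff_mem_closure.2 h3)]

end Groth.Agent.AffNorm62
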