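import Mathlib.AlgebraicGeometry.Fiber
import Mathlib.AlgebraicGeometry.Morphisms.UniversallyOpen

/-! Maximal points under base change along a morphism of schemes. -/

universe u

open CategoryTheory CategoryTheory.Limits AlgebraicGeometry

namespace Groth.Agent.AffNorm62

/-- If `ξ'` is maximal in a base change and its image downstairs is maximal, then the image of
`ξ'` in the new base is maximal. -/
theorem isMax_image_of_isPullback {U U' A A' : Scheme.{u}} {p : U' ⟶ U} {q : U' ⟶ A'} {g : U ⟶ A}
    {h : A' ⟶ A} (hsq : IsPullback p q g h) (ξ' : U') (hξ' : ∀ w, w ⤳ ξ' → w = ξ')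
    (ha : ∀ w, w ⤳ g (p ξ') → w = g (p ξ')) : ∀ w, w ⤳ q ξ' → w = q ξ' := by
  intro b hb
  have hcomm : h (q ξ') = g (p ξ') := by
    rw [← Scheme.Hom.comp_apply, ← Scheme.Hom.comp_apply, hsq.w]
  let a := g (p ξ')
  have hba : h b = a := ha _ (hcomm ▸ hb.map h.continuous)
  let r := A.fromSpecResidueField a
  let π := pullback.snd g r
  have : Flat π := inferInstance
  obtain ⟨bF, hbF⟩ : b ∈ Set.range (pullback.fst h r) :=
    (h.range_fiberι a).symm ▸ (show b ∈ h ⁻¹' {a} from hba)
  obtain ⟨cF, hcF⟩ : q ξ' ∈ Set.range (pullback.fst h r) :=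
    (h.range_fiberι a).symm ▸ (show q ξ' ∈ h ⁻¹' {a} from hcomm)
  have hemb : Topology.IsEmbedding (pullback.fst h r) := (pullback.fst h r).isEmbedding
  have hbc : bF ⤳ cF := hemb.isInducing.specializes_iff.1 (by rw [hbF, hcF]; exact hb)
  -- the base change of the fibre of `g` over `a` to the fibre of `h` over `a`
  let F := pullback h r
  let P := pullback q (pullback.fst h r)
  have hP : IsPullback (pullback.fst q (pullback.fst h r) ≫ p) (pullback.snd q (pullback.fst h r))
      g (pullback.fst h r ≫ h) := (IsPullback.of_hasPullback _ _).paste_horiz hsq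
  rw [pullback.condition] at hP
  let m : P ⟶ pullback g r := pullback.lift (pullback.fst q (pullback.fst h r) ≫ p)
    (pullback.snd q (pullback.fst h r) ≫ pullback.snd h r) (by rw [hP.w, Category.assoc])
  have hP' : IsPullback m (pullback.snd q (pullback.fst h r)) π (pullback.snd h r) := by
    refine IsPullback.of_right ?_ (pullback.lift_snd _ _ _) (IsPullback.of_hasPullback g r)
    rw [pullback.lift_fst]
    exact hP
  have hflat : Flat (pullback.snd q (pullback.fst h r)) :=
    MorphismProperty.of_isPullback (P := @Flat) hP' inferInstance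
  obtain ⟨t, ht, ht'⟩ := Scheme.Pullback.exists_preimage_pullback (f := q) (g := pullback.fst h r)
    ξ' cF hcF.symm
  obtain ⟨t₂, ht₂, ht₂'⟩ := Flat.generalizingMap (pullback.snd q (pullback.fst h r))
    (a := t) (b := bF) (by rw [ht']; exact hbc)
  have h1 : pullback.fst q (pullback.fst h r) t₂ = ξ' :=
    hξ' _ (ht ▸ ht₂.map (pullback.fst q (pullback.fst h r)).continuous)
  rw [← hbF, ← ht₂', ← h1, ← Scheme.Hom.comp_apply, ← Scheme.Hom.comp_apply, pullback.condition]

end Groth.Agent.AffNorm62
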