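import Groth.Agent.E4O.FibreDim

/-! `fdeg` after an injective morphism of targets. -/

universe u

open CategoryTheory AlgebraicGeometry

namespace Groth.Agent.AffNorm62

theorem fdeg_comp_right_openImmersion {X Y Z : Scheme.{u}} (f : X ⟶ Y) (j : Y ⟶ Z)
    [IsOpenImmersion j] (x : X) : E4O.fdeg (f ≫ j) x = E4O.fdeg f x := by
  have h : (f ≫ j) ⁻¹' {(f ≫ j) x} = f ⁻¹' {f x} := by
    ext a
    exact j.isOpenEmbedding.injective.eq_iff
  unfold E4O.fdeg
  rw [h]

theorem eq_of_closure_eq {α : Type*} [TopologicalSpace α] [T0Space α] {a b : α}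
    (h : closure ({a} : Set α) = closure {b}) : a = b :=
  ((specializes_iff_mem_closure.2 (h.ge (subset_closure rfl))).antisymm
    (specializes_iff_mem_closure.2 (h.le (subset_closure rfl)))).eq

end Groth.Agent.AffNorm62
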